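import Mathlib
import Cfsg.Agent.Lib.Helper14.OCls.Defs
import Cfsg.Agent.Lib.Helper40.SpExist

/-!
# OCLS package [INV]: an invariant quadratic form with non-degenerate polar form

A matrix `M` of odd order prime to the characteristic, with self-dual characteristic polynomial
and without the eigenvalue `1`, preserves a quadratic form whose polar form is non-degenerate
(all characteristics).
-/

set_option autoImplicit false
set_option linter.unusedVariables false

namespace Cfsg.Agent.Lib.Helper79.OCls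

open Matrix Polynomial Cfsg.Agent.Lib.Helper40.DualPoly

universe u

/-- An alternating matrix is skew-symmetric. -/
theorem transpose_eq_neg_of_alt {F : Type*} [Field F] {ι : Type*} [Fintype ι] [DecidableEq ι]
    (y : Matrix ι ι F) (halt : ∀ v : ι → F, v ⬝ᵥ y *ᵥ v = 0) : yᵀ = -y := by
  ext i j
  have h1 := halt (Pi.single i 1)
  have h2 := halt (Pi.single j 1)
  have h3 := halt (Pi.single i 1 + Pi.single j 1)
  simp only [Matrix.mulVec_add, dotProduct_add, add_dotProduct, Matrix.mulVec_single_one,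
    single_one_dotProduct, Matrix.col_apply] at h1 h2 h3
  simp only [transpose_apply, Matrix.neg_apply]
  linear_combination h3 - h1 - h2

/-- The quadratic form `v ↦ vᵀ w v` for `w = z θ`: invariance and polar form. -/
theorem invForm_core {F : Type u} [Field F] {ι : Type} [Fintype ι] [DecidableEq ι]
    (M M' z z' θ : Matrix ι ι F) (hMM' : M * M' = 1) (hzz' : z * z' = 1) (hzT : zᵀ = z)
    (hzinv : Mᵀ * z * M = z) (hθ : (1 + M) * θ = 1) :
    ∃ Q : QuadraticForm F (ι → F), (QuadraticMap.polarBilin Q).Nondegenerate ∧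
      ∀ v, Q (M *ᵥ v) = Q v := by
  have hM'M : M' * M = 1 := mul_eq_one_comm.mp hMM'
  have hz'z : z' * z = 1 := mul_eq_one_comm.mp hzz'
  have hθ' : θ * (1 + M) = 1 := mul_eq_one_comm.mp hθ
  -- `θ` commutes with `M`
  have hθM : θ * M = M * θ := by
    calc θ * M = θ * M * ((1 + M) * θ) := by rw [hθ, mul_one]
      _ = θ * ((1 + M) * M) * θ := by noncomm_ring
      _ = (θ * (1 + M)) * M * θ := by noncomm_ring
      _ = M * θ := by rw [hθ', one_mul]
  have hMz : Mᵀ * z = z * M' := by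
    calc Mᵀ * z = Mᵀ * z * (M * M') := by rw [hMM', mul_one]
      _ = (Mᵀ * z * M) * M' := by simp only [mul_assoc]
      _ = z * M' := by rw [hzinv]
  obtain ⟨w, hw⟩ : ∃ w : Matrix ι ι F, w = z * θ := ⟨_, rfl⟩
  have hwinv : Mᵀ * w * M = w := by
    calc Mᵀ * w * M = Mᵀ * z * (θ * M) := by rw [hw]; simp only [mul_assoc]
      _ = (Mᵀ * z * M) * θ := by rw [hθM]; simp only [mul_assoc]
      _ = w := by rw [hzinv, hw]
  have hwT : wᵀ = z * M * θ := by
    have e1 : (1 + M)ᵀ * z = z * (1 + M') := by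
      rw [transpose_add, transpose_one, add_mul, one_mul, hMz, mul_add, mul_one]
    have e2 : θᵀ * (1 + M)ᵀ = 1 := by rw [← transpose_mul, hθ, transpose_one]
    have e3 : (1 + M') * (M * θ) = 1 := by
      calc (1 + M') * (M * θ) = (M + M' * M) * θ := by noncomm_ring
        _ = (1 + M) * θ := by rw [hM'M, add_comm]
        _ = 1 := hθ
    calc wᵀ = θᵀ * z := by rw [hw, transpose_mul, hzT]
      _ = θᵀ * z * ((1 + M') * (M * θ)) := by rw [e3, mul_one]
      _ = θᵀ * (z * (1 + M')) * (M * θ) := by simp only [mul_assoc]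
      _ = (θᵀ * (1 + M)ᵀ) * z * (M * θ) := by rw [← e1]; simp only [mul_assoc]
      _ = z * M * θ := by rw [e2, one_mul, mul_assoc]
  have hsum : w + wᵀ = z := by
    calc w + wᵀ = z * ((1 + M) * θ) := by rw [hwT, hw]; noncomm_ring
      _ = z := by rw [hθ, mul_one]
  have hQ : ∀ v : ι → F, Matrix.toQuadraticForm' w v = v ⬝ᵥ w *ᵥ v := by
    intro v
    rw [Matrix.toQuadraticForm']
    rw [LinearMap.BilinMap.toQuadraticMap_apply, Matrix.toLinearMap₂'_apply']
  have hpolar : ∀ a b : ι → F,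
      QuadraticMap.polarBilin (Matrix.toQuadraticForm' w) a b = a ⬝ᵥ z *ᵥ b := by
    intro a b
    rw [QuadraticMap.polarBilin_apply_apply, QuadraticMap.polar, hQ, hQ, hQ, ← hsum]
    have e : b ⬝ᵥ w *ᵥ a = a ⬝ᵥ wᵀ *ᵥ b := by
      rw [Matrix.mulVec_transpose, Matrix.dotProduct_mulVec, dotProduct_comm]
    simp only [Matrix.mulVec_add, dotProduct_add, add_dotProduct, Matrix.add_mulVec]
    rw [← e]
    ring
  refine ⟨Matrix.toQuadraticForm' w, ⟨?_, ?_⟩, ?_⟩
  · intro a ha
    have h0 : a ᵥ* z = 0 := by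
      funext j
      have := ha (Pi.single j 1)
      rw [hpolar, Matrix.dotProduct_mulVec] at this
      simpa using this
    have : a ᵥ* (z * z') = 0 := by rw [← Matrix.vecMul_vecMul, h0, Matrix.zero_vecMul]
    rwa [hzz', Matrix.vecMul_one] at this
  · intro b hb
    have h0 : z *ᵥ b = 0 := by
      funext j
      have := hb (Pi.single j 1)
      rw [hpolar] at this
      simpa using this
    have : (z' * z) *ᵥ b = 0 := by rw [← Matrix.mulVec_mulVec, h0, Matrix.mulVec_zero]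
    rwa [hz'z, Matrix.one_mulVec] at this
  · intro v
    rw [hQ, hQ]
    have e : v ⬝ᵥ (Mᵀ * w * M) *ᵥ v = (M *ᵥ v) ⬝ᵥ w *ᵥ (M *ᵥ v) := by
      rw [← Matrix.mulVec_mulVec, ← Matrix.mulVec_mulVec, Matrix.dotProduct_mulVec,
        Matrix.vecMul_transpose]
    rw [← e, hwinv]

theorem pkgInvForm : Cfsg.Agent.Lib.Helper14.OCls.PkgInvForm.{u} := by
  intro F _ _ ι _ _ M r hr hrF hMr hd h1
  classical
  have hr1 : 1 ≤ r := by
    obtain ⟨k, hk⟩ := hr
    omega
  obtain ⟨M', hM'⟩ : ∃ M' : Matrix ι ι F, M' = M ^ (r - 1) := ⟨_, rfl⟩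
  have hMM' : M * M' = 1 := by rw [hM', ← pow_succ', Nat.sub_add_cancel hr1, hMr]
  have hM'M : M' * M = 1 := mul_eq_one_comm.mp hMM'
  have hc' : M'ᵀ.charpoly = M.charpoly := by
    rw [Matrix.charpoly_transpose, charpoly_inv_eq M M' hMM']
    have h := hd
    unfold dual at h
    simpa using h
  have hsM := Cfsg.Agent.Lib.Helper40.SympWall.isSemisimple_of_pow_eq_one' M r hrF hMr
  have hM'N : M'ᵀ ^ r = 1 := by
    rw [← transpose_pow, hM', ← pow_mul, mul_comm, pow_mul, hMr, one_pow, transpose_one]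
  have hsM' := Cfsg.Agent.Lib.Helper40.SympWall.isSemisimple_of_pow_eq_one' M'ᵀ r hrF hM'N
  obtain ⟨e, he⟩ := Cfsg.Agent.Lib.Helper40.exists_equiv_of_charpoly_eq
    (Module.finrank F (ι → F)) (ι → F) (ι → F) (Matrix.toLin' M) (Matrix.toLin' M'ᵀ) rfl hsM hsM'
    (by rw [Matrix.charpoly_toLin', Matrix.charpoly_toLin', hc'])
  obtain ⟨x, hx⟩ : ∃ x : Matrix ι ι F,
      x = LinearMap.toMatrix' (e : (ι → F) →ₗ[F] (ι → F)) := ⟨_, rfl⟩
  obtain ⟨x', hx'⟩ : ∃ x' : Matrix ι ι F,
      x' = LinearMap.toMatrix' (e.symm : (ι → F) →ₗ[F] (ι → F)) := ⟨_, rfl⟩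
  have hxx' : x * x' = 1 := by
    rw [hx, hx', ← LinearMap.toMatrix'_comp]
    simp
  have hxM : x * M = M'ᵀ * x := by
    apply Matrix.toLin'.injective
    apply LinearMap.ext
    intro v
    rw [hx]
    simp only [Matrix.toLin'_mul, Matrix.toLin'_toMatrix', LinearMap.comp_apply]
    exact he v
  have hinv : Mᵀ * x * M = x := by
    calc Mᵀ * x * M = Mᵀ * (x * M) := by rw [mul_assoc]
      _ = Mᵀ * (M'ᵀ * x) := by rw [hxM]
      _ = (M' * M)ᵀ * x := by rw [transpose_mul, mul_assoc]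
      _ = x := by rw [hM'M, transpose_one, one_mul]
  have hdet1 : (1 - M).det ≠ 0 := by
    have := Matrix.eval_charpoly M 1
    rw [map_one] at this
    rw [← this]
    exact h1
  have hdet2 : (-1 - M).det ≠ 0 := by
    intro h0
    obtain ⟨v, hv, hv0⟩ := Matrix.exists_mulVec_eq_zero_iff.mpr h0
    have hMv : M *ᵥ v = -v := by
      have : (-1 - M) *ᵥ v = -v - M *ᵥ v := by
        rw [Matrix.sub_mulVec, Matrix.neg_mulVec, Matrix.one_mulVec]
      rw [this] at hv0
      have h2 : M *ᵥ v = -v - (-v - M *ᵥ v) := by abel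
      rw [h2, hv0, sub_zero]
    have hpow : ∀ n : ℕ, (M ^ n) *ᵥ v = (-1 : F) ^ n • v := by
      intro n
      induction n with
      | zero => simp
      | succ n ih =>
        rw [pow_succ, ← Matrix.mulVec_mulVec, hMv, Matrix.mulVec_neg, ih, pow_succ]
        simp
    have h2 := hpow r
    rw [hMr, Matrix.one_mulVec, hr.neg_one_pow, neg_one_smul] at h2
    -- `v = -v`
    have h3 : (1 - M) *ᵥ v = 0 := by
      rw [Matrix.sub_mulVec, Matrix.one_mulVec, hMv, ← h2, sub_self]
    exact hdet1 (Matrix.exists_mulVec_eq_zero_iff.mp ⟨v, hv, h3⟩)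
  obtain ⟨θ, hθ⟩ : ∃ θ : Matrix ι ι F, (1 + M) * θ = 1 := by
    refine ⟨-(-1 - M)⁻¹, ?_⟩
    have := Matrix.mul_nonsing_inv (-1 - M) (Ne.isUnit hdet2)
    calc (1 + M) * -(-1 - M)⁻¹ = (-1 - M) * (-1 - M)⁻¹ := by noncomm_ring
      _ = 1 := this
  have hD : (M - M').det ≠ 0 := by
    have e1 : (M - M') * M = (1 - M) * (-1 - M) := by
      rw [sub_mul, hM'M]
      noncomm_ring
    have e2 := congrArg Matrix.det e1
    rw [det_mul, det_mul] at e2
    intro h
    rw [h, zero_mul] at e2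
    exact mul_ne_zero hdet1 hdet2 e2.symm
  obtain ⟨δ, hδ⟩ : ∃ δ : Matrix ι ι F, (M - M') * δ = 1 :=
    ⟨(M - M')⁻¹, Matrix.mul_nonsing_inv _ (Ne.isUnit hD)⟩
  have hδ' : δ * (M - M') = 1 := mul_eq_one_comm.mp hδ
  obtain ⟨y, y', hyy', halt, hyinv⟩ :=
    Cfsg.Agent.Lib.Helper40.SpExist.exists_alt_invariant M M' x x' δ hMM' hxx' hinv hδ
  have hyT : yᵀ = -y := transpose_eq_neg_of_alt y halt
  have hMy : Mᵀ * y = y * M' := by
    calc Mᵀ * y = Mᵀ * y * (M * M') := by rw [hMM', mul_one]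
      _ = (Mᵀ * y * M) * M' := by simp only [mul_assoc]
      _ = y * M' := by rw [hyinv]
  have hM'y : M'ᵀ * y = y * M := by
    calc M'ᵀ * y = M'ᵀ * (Mᵀ * y * M) := by rw [hyinv]
      _ = (M * M')ᵀ * y * M := by rw [transpose_mul]; simp only [mul_assoc]
      _ = y * M := by rw [hMM', transpose_one, one_mul]
  have hDy : (M - M')ᵀ * y = -(y * (M - M')) := by
    rw [transpose_sub, sub_mul, hMy, hM'y, mul_sub]
    abel
  -- `δ` commutes with `M`
  have hDM : (M - M') * M = M * (M - M') := by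
    rw [sub_mul, mul_sub, hM'M, hMM']
  have hδM : δ * M = M * δ := by
    calc δ * M = δ * M * ((M - M') * δ) := by rw [hδ, mul_one]
      _ = δ * (M * (M - M')) * δ := by simp only [mul_assoc]
      _ = δ * ((M - M') * M) * δ := by rw [hDM]
      _ = (δ * (M - M')) * M * δ := by simp only [mul_assoc]
      _ = M * δ := by rw [hδ', one_mul]
  have hδy : δᵀ * y = -(y * δ) := by
    have e2 : δᵀ * (M - M')ᵀ = 1 := by rw [← transpose_mul, hδ, transpose_one]
    calc δᵀ * y = δᵀ * y * ((M - M') * δ) := by rw [hδ, mul_one]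
      _ = δᵀ * (y * (M - M')) * δ := by simp only [mul_assoc]
      _ = -(δᵀ * (-(y * (M - M'))) * δ) := by noncomm_ring
      _ = -((δᵀ * (M - M')ᵀ) * y * δ) := by rw [← hDy]; simp only [mul_assoc]
      _ = -(y * δ) := by rw [e2, one_mul]
  refine invForm_core M M' (y * δ) ((M - M') * y') θ hMM' ?_ ?_ ?_ hθ
  · calc y * δ * ((M - M') * y') = y * (δ * (M - M')) * y' := by simp only [mul_assoc]
      _ = 1 := by rw [hδ', mul_one, hyy']
  · rw [transpose_mul, hyT, mul_neg, hδy, neg_neg]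
  · calc Mᵀ * (y * δ) * M = Mᵀ * y * (δ * M) := by simp only [mul_assoc]
      _ = (Mᵀ * y * M) * δ := by rw [hδM]; simp only [mul_assoc]
      _ = y * δ := by rw [hyinv]

end Cfsg.Agent.Lib.Helper79.OCls
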