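import Mathlib
import Cfsg.Agent.Lib.Helper14.OCls.Defs

/-!
# OCLS package [EXCORE]

All factors self-dual: from an invariant form on the non-fixed part (package [INV]) build an
invariant quadratic form on `F^(b Σ a) ⊕ F^κ` extending a given form on the fixed space `F^κ`.
-/

set_option autoImplicit false
set_option linter.unusedVariables false

namespace Cfsg.Agent.Lib.Helper79.OCls

open Matrix Polynomial Cfsg.Agent.Lib.Helper40.PrimeOrderGL Cfsg.Agent.Lib.Helper40.DualPoly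

universe u

theorem fromBlocks_diag_pow_aux {R : Type*} [CommRing R] {α β : Type*} [Fintype α] [DecidableEq α]
    [Fintype β] [DecidableEq β] (A : Matrix α α R) (D : Matrix β β R) (k : ℕ) :
    (fromBlocks A 0 0 D) ^ k = fromBlocks (A ^ k) 0 0 (D ^ k) := by
  induction k with
  | zero => simp [Matrix.fromBlocks_one]
  | succ k ih =>
    rw [pow_succ, ih, Matrix.fromBlocks_multiply]
    simp [pow_succ]

theorem pkgExCore : Cfsg.Agent.Lib.Helper14.OCls.PkgExCore.{u} := by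
  intro hInv F _ _ _ p _ _ S r b hS hr hr2 hrF hself a κ _ _ Q₂ hQ₂
  classical
  obtain ⟨g, hg, hgc⟩ := exists_GL_chi (n := b * ∑ π, a π) p hS hr.pos a le_rfl
  rw [Nat.sub_self] at hgc
  obtain ⟨MW, hMW⟩ : ∃ MW : Matrix (Fin (b * ∑ π, a π)) (Fin (b * ∑ π, a π)) F,
      MW = (g : Matrix (Fin (b * ∑ π, a π)) (Fin (b * ∑ π, a π)) F) := ⟨_, rfl⟩
  have hMWr : MW ^ r = 1 := by
    rw [hMW, ← Units.val_pow_eq_pow_val, hg]
    rfl
  have hMWc : MW.charpoly = chi S a 0 := by rw [hMW, hgc]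
  have hdual : dual (RingHom.id F) MW.charpoly = MW.charpoly := by
    rw [hMWc]
    exact Cfsg.Agent.Lib.Helper40.GUPrimeOrder.dual_chi (RingHom.id F) (fun π : S => π)
      (fun _ => rfl) (fun π => (hself π.1 π.2).symm) a 0
  have heval : MW.charpoly.eval 1 ≠ 0 := by
    rw [hMWc]
    unfold chi
    rw [pow_zero, one_mul, eval_prod]
    apply Finset.prod_ne_zero_iff.mpr
    intro π _
    rw [eval_pow]
    exact pow_ne_zero _ (Cfsg.Agent.Lib.Helper40.SpExist.eval_one_ne hS π.1 π.2)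
  obtain ⟨QW, hQW, hQWinv⟩ := hInv MW r (hr.odd_of_ne_two hr2) hrF hMWr hdual heval
  have hdet1 : (1 - MW).det ≠ 0 := by
    have := Matrix.eval_charpoly MW 1
    rw [map_one] at this
    rw [← this]
    exact heval
  obtain ⟨Q', hQ'⟩ : ∃ Q' : QuadraticForm F (Fin (b * ∑ π, a π) ⊕ κ → F),
      ∀ v, Q' v = QW (v ∘ Sum.inl) + Q₂ (v ∘ Sum.inr) :=
    ⟨QW.comp (LinearMap.funLeft F F Sum.inl) + Q₂.comp (LinearMap.funLeft F F Sum.inr),
      fun v => rfl⟩
  have hpolar : ∀ x y : Fin (b * ∑ π, a π) ⊕ κ → F, QuadraticMap.polarBilin Q' x y =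
      QuadraticMap.polarBilin QW (x ∘ Sum.inl) (y ∘ Sum.inl) +
        QuadraticMap.polarBilin Q₂ (x ∘ Sum.inr) (y ∘ Sum.inr) := by
    intro x y
    simp only [QuadraticMap.polarBilin_apply_apply, QuadraticMap.polar, hQ']
    have e1 : (x + y) ∘ Sum.inl = x ∘ Sum.inl + y ∘ (Sum.inl : Fin (b * ∑ π, a π) → _) := rfl
    have e2 : (x + y) ∘ Sum.inr = x ∘ Sum.inr + y ∘ (Sum.inr : κ → _) := rfl
    rw [e1, e2]
    ring
  obtain ⟨M, hM⟩ : ∃ M : Matrix (Fin (b * ∑ π, a π) ⊕ κ) (Fin (b * ∑ π, a π) ⊕ κ) F,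
      M = fromBlocks MW 0 0 1 := ⟨_, rfl⟩
  have hMv : ∀ v : Fin (b * ∑ π, a π) ⊕ κ → F,
      (M *ᵥ v) ∘ Sum.inl = MW *ᵥ (v ∘ Sum.inl) ∧ (M *ᵥ v) ∘ Sum.inr = v ∘ Sum.inr := by
    intro v
    rw [hM, Matrix.fromBlocks_mulVec]
    simp only [Sum.elim_comp_inl, Sum.elim_comp_inr]
    constructor
    · rw [Matrix.zero_mulVec, add_zero]
    · rw [Matrix.zero_mulVec, zero_add, Matrix.one_mulVec]
  have hfix : ∀ v : Fin (b * ∑ π, a π) ⊕ κ → F, M *ᵥ v = v → v ∘ Sum.inl = 0 := by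
    intro v hv
    have h1 : MW *ᵥ (v ∘ Sum.inl) = v ∘ Sum.inl := by rw [← (hMv v).1, hv]
    have h2 : (1 - MW) *ᵥ (v ∘ Sum.inl) = 0 := by
      rw [Matrix.sub_mulVec, Matrix.one_mulVec, h1, sub_self]
    exact Matrix.eq_zero_of_mulVec_eq_zero hdet1 h2
  have hMfix : ∀ w : κ → F, M *ᵥ (Sum.elim (0 : Fin (b * ∑ π, a π) → F) w) =
      Sum.elim (0 : Fin (b * ∑ π, a π) → F) w := by
    intro w
    rw [hM, Matrix.fromBlocks_mulVec]
    simp only [Sum.elim_comp_inl, Sum.elim_comp_inr]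
    rw [Matrix.zero_mulVec, Matrix.zero_mulVec, Matrix.mulVec_zero, Matrix.one_mulVec, add_zero,
      zero_add]
  refine ⟨Q', M, ⟨?_, ?_⟩, ?_, ?_, ?_, ?_⟩
  · intro x hx
    have h1 : x ∘ Sum.inl = 0 := by
      apply hQW.1
      intro w
      have := hx (Sum.elim w (0 : κ → F))
      rw [hpolar, Sum.elim_comp_inl, Sum.elim_comp_inr, map_zero, add_zero] at this
      exact this
    have h2 : x ∘ Sum.inr = 0 := by
      apply hQ₂.1
      intro w
      have := hx (Sum.elim (0 : Fin (b * ∑ π, a π) → F) w)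
      rw [hpolar, Sum.elim_comp_inl, Sum.elim_comp_inr, map_zero, zero_add] at this
      exact this
    funext i
    rcases i with i | i
    · exact congrFun h1 i
    · exact congrFun h2 i
  · intro y hy
    have h1 : y ∘ Sum.inl = 0 := by
      apply hQW.2
      intro w
      have := hy (Sum.elim w (0 : κ → F))
      rw [hpolar, Sum.elim_comp_inl, Sum.elim_comp_inr, map_zero, LinearMap.zero_apply,
        add_zero] at this
      exact this
    have h2 : y ∘ Sum.inr = 0 := by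
      apply hQ₂.2
      intro w
      have := hy (Sum.elim (0 : Fin (b * ∑ π, a π) → F) w)
      rw [hpolar, Sum.elim_comp_inl, Sum.elim_comp_inr, map_zero, LinearMap.zero_apply,
        zero_add] at this
      exact this
    funext i
    rcases i with i | i
    · exact congrFun h1 i
    · exact congrFun h2 i
  · rw [hM, fromBlocks_diag_pow_aux, hMWr, one_pow, Matrix.fromBlocks_one]
  · intro v
    rw [hQ', hQ', (hMv v).1, (hMv v).2, hQWinv]
  · rw [hM, Matrix.charpoly_fromBlocks_zero₁₂, hMWc, Matrix.charpoly_one]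
    unfold chi
    rw [pow_zero, one_mul, map_one, mul_comm]
  · refine Nat.card_congr ⟨fun v => ⟨v.1 ∘ Sum.inr, ?_⟩, fun w => ⟨Sum.elim (0 : Fin (b * ∑ π, a π) → F) w.1, ?_, ?_⟩, ?_, ?_⟩
    · have h1 := hfix v.1 v.2.2
      have h2 := v.2.1
      rw [hQ', h1, map_zero, zero_add] at h2
      exact h2
    · rw [hQ']
      simp only [Sum.elim_comp_inl, Sum.elim_comp_inr, map_zero, zero_add]
      exact w.2
    · exact hMfix w.1
    · intro v
      apply Subtype.ext
      have h1 := hfix v.1 v.2.2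
      show Sum.elim (0 : Fin (b * ∑ π, a π) → F) (v.1 ∘ Sum.inr) = v.1
      rw [← h1, Sum.elim_comp_inl_inr]
    · intro w
      apply Subtype.ext
      show (Sum.elim (0 : Fin (b * ∑ π, a π) → F) w.1) ∘ Sum.inr = w.1
      rw [Sum.elim_comp_inr]

end Cfsg.Agent.Lib.Helper79.OCls
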