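import Mathlib
import Cfsg.Agent.Lib.Helper14.OCls.Defs

/-!
# OCLS package [EXEVENODD]

All factors self-dual, odd characteristic, target the odd-dimensional form: take the sum of
squares on the fixed space, apply `ExCore`, classify by `ClassOdd`, transport.
-/

set_option autoImplicit false
set_option linter.unusedVariables false

namespace Cfsg.Agent.Lib.Helper79.OCls

open Matrix Polynomial Cfsg.Agent.Lib.Helper40.PrimeOrderGL Cfsg.Agent.Lib.Helper40.DualPoly

universe u

/-- Sum of squares: non-degenerate polar form when `2 ≠ 0`. -/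
theorem exists_sumsq_form {F : Type u} [Field F] (h2 : (2 : F) ≠ 0) (k : ℕ) :
    ∃ Q : QuadraticForm F (Fin k → F), (QuadraticMap.polarBilin Q).Nondegenerate := by
  classical
  have hQ : ∀ v : Fin k → F,
      Matrix.toQuadraticForm' (1 : Matrix (Fin k) (Fin k) F) v = v ⬝ᵥ v := by
    intro v
    rw [Matrix.toQuadraticForm', LinearMap.BilinMap.toQuadraticMap_apply,
      Matrix.toLinearMap₂'_apply', Matrix.one_mulVec]
  have hpolar : ∀ x y : Fin k → F,
      QuadraticMap.polarBilin (Matrix.toQuadraticForm' (1 : Matrix (Fin k) (Fin k) F)) x y =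
        2 * (x ⬝ᵥ y) := by
    intro x y
    rw [QuadraticMap.polarBilin_apply_apply, QuadraticMap.polar, hQ, hQ, hQ]
    simp only [dotProduct_add, add_dotProduct]
    rw [dotProduct_comm y x]
    ring
  refine ⟨Matrix.toQuadraticForm' 1, ?_, ?_⟩
  · intro x hx
    funext j
    have := hx (Pi.single j 1)
    rw [hpolar] at this
    simpa [h2] using this
  · intro y hy
    funext j
    have := hy (Pi.single j 1)
    rw [hpolar] at this
    simpa [h2] using this

theorem pkgExEvenOdd : Cfsg.Agent.Lib.Helper14.OCls.PkgExEvenOdd.{u} := by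
  intro hCore hClass hTr F _ _ _ p _ _ h2 S r b hS hr hr2 hrF hself m a hle
  classical
  obtain ⟨k, hk⟩ : ∃ k : ℕ, k = 2 * m + 1 - b * ∑ π, a π := ⟨_, rfl⟩
  obtain ⟨Q₂, hQ₂⟩ := exists_sumsq_form h2 k
  obtain ⟨Q', M, hQ'nd, hMr, hMinv, hMc, -⟩ := hCore p S r b hS hr hr2 hrF hself a Q₂ hQ₂
  have hfr : Module.finrank F (Fin (b * ∑ π, a π) ⊕ Fin k → F) = 2 * m + 1 := by
    rw [Module.finrank_fintype_fun_eq_card, Fintype.card_sum, Fintype.card_fin, Fintype.card_fin]
    omega
  obtain ⟨c, φ, hc, hφ⟩ := hClass h2 Q' hQ'nd m hfr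
  obtain ⟨g, hgr, hginv, hgc⟩ :=
    hTr (fun v => Q' v) (Cfsg.quadFormOdd m F) c φ hφ M r hMr hMinv
  refine ⟨g, hgr, hginv, ?_⟩
  rw [hgc, hMc, Fintype.card_fin, hk]

end Cfsg.Agent.Lib.Helper79.OCls
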